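import Groth.Prelude.Def_CohB1
import Groth.Agent.Fdesc.QCohStalk
import Mathlib.RingTheory.Support

/-!
# The support of a quasi-coherent module on affine opens
-/

set_option autoImplicit false
universe u

open CategoryTheory CategoryTheory.Limits AlgebraicGeometry TopologicalSpace

namespace K582.Support

open Groth.Agent.Fdesc.QCohStalk

variable {X : Scheme.{u}} (M : X.Modules)

theorem mem_support_iff_primeIdealOf (hM : Coh.IsQCoh M) {U : X.Opens} (hU : IsAffineOpen U) (x : X) (hx : x ∈ U) :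
    hU.primeIdealOf ⟨x, hx⟩ ∈ Module.support Γ(X, U) Γ(M, U) ↔ x ∈ CohB1.support M := by
  let i4 : Module Γ(X, U) (M.presheaf.stalk x) := stalkModule M x hx
  have i11 : IsLocalizedModule (hU.primeIdealOf ⟨x, hx⟩).asIdeal.primeCompl (germₗ M x hx) :=
    isLocalizedModule_germ M hU hM x hx
  rw [Module.mem_support_iff, ← not_subsingleton_iff_nontrivial]
  change _ ↔ ¬ Subsingleton (M.presheaf.stalk x)
  rw [(IsLocalizedModule.iso (hU.primeIdealOf ⟨x, hx⟩).asIdeal.primeCompl
    (germₗ M x hx)).toEquiv.subsingleton_congr]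

theorem primeIdealOf_le {U : X.Opens} (hU : IsAffineOpen U) {x y : X} (h : x ⤳ y) (hx : x ∈ U) (hy : y ∈ U) :
    hU.primeIdealOf ⟨x, hx⟩ ≤ hU.primeIdealOf ⟨y, hy⟩ := by
  rw [PrimeSpectrum.le_iff_specializes]
  refine (hU.fromSpec.isOpenEmbedding.isInducing.specializes_iff (x := hU.primeIdealOf ⟨x, hx⟩)
    (y := hU.primeIdealOf ⟨y, hy⟩)).mp ?_
  have h1 := hU.fromSpec_primeIdealOf ⟨x, hx⟩
  have h2 := hU.fromSpec_primeIdealOf ⟨y, hy⟩
  simp only at h1 h2
  rw [h1, h2]
  exact h

theorem stableUnderSpecialization_support (hM : Coh.IsQCoh M) : StableUnderSpecialization (CohB1.support M) := by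
  intro x y hxy hx
  obtain ⟨U, hU, hyU, -⟩ := exists_isAffineOpen_mem_and_subset (x := y) (U := ⊤) trivial
  have hxU : x ∈ U := hxy.mem_open U.isOpen hyU
  rw [← mem_support_iff_primeIdealOf M hM hU x hxU] at hx
  rw [← mem_support_iff_primeIdealOf M hM hU y hyU]
  exact Module.mem_support_mono (primeIdealOf_le hU hxy hxU hyU) hx

end K582.Support
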