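import Groth.Agent.Ega1.AnnIdeal
import Groth.Agent.Divis.IdealComap
import Groth.Agent.Fdesc.PullbackSec
import Groth.Agent.FormalA.PullbackQC
import Mathlib.RingTheory.Flat.Equalizer

/-!
# Annihilators and flat base change
-/

set_option autoImplicit false
universe u

open CategoryTheory CategoryTheory.Limits AlgebraicGeometry TopologicalSpace TensorProduct

namespace K582.AnnFlat

section algebra

/-- The annihilator of a finite module commutes with flat base change. -/
theorem annihilator_baseChange (A B M : Type*) [CommRing A] [CommRing B] [Algebra A B] [Module.Flat A B]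
    [AddCommGroup M] [Module A M] [Module.Finite A M] :
    Module.annihilator B (B ⊗[A] M) = (Module.annihilator A M).map (algebraMap A B) := by
  apply le_antisymm
  · intro b hb
    rw [Module.mem_annihilator] at hb
    obtain ⟨n, s, hs⟩ := Module.Finite.exists_fin (R := A) (M := M)
    let φ : A →ₗ[A] (Fin n → M) := LinearMap.pi fun i => LinearMap.toSpanSingleton A M (s i)
    have hφ : ∀ a i, φ a i = a • s i := fun a i => rfl
    have hker : ∀ a, a ∈ LinearMap.ker φ → a ∈ Module.annihilator A M := by
      intro a ha
      rw [Module.mem_annihilator]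
      intro m
      have hm : m ∈ Submodule.span A (Set.range s) := by rw [hs]; trivial
      induction hm using Submodule.span_induction with
      | mem x hx =>
        obtain ⟨i, rfl⟩ := hx
        rw [← hφ, LinearMap.mem_ker.mp ha]
        rfl
      | zero => rw [smul_zero]
      | add x y _ _ hx hy => rw [smul_add, hx, hy, add_zero]
      | smul r x _ hx => rw [smul_comm, hx, smul_zero]
    have h1 : b ⊗ₜ[A] (1 : A) ∈ LinearMap.ker (AlgebraTensorModule.lTensor B B φ) := by
      rw [LinearMap.mem_ker, AlgebraTensorModule.lTensor_tmul]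
      have h2 : φ 1 = ∑ i, LinearMap.single A (fun _ => M) i (s i) := by
        funext i
        rw [hφ, one_smul]
        simp only [LinearMap.single_apply]
        exact (congrFun (Finset.univ_sum_single s) i).symm
      rw [h2, TensorProduct.tmul_sum]
      refine Finset.sum_eq_zero fun i _ => ?_
      have h3 : b ⊗ₜ[A] s i = 0 := by
        have := hb (1 ⊗ₜ[A] s i)
        rwa [TensorProduct.smul_tmul', smul_eq_mul, mul_one] at this
      have h4 := congrArg (LinearMap.lTensor B (LinearMap.single A (fun _ => M) i)) h3
      rwa [LinearMap.lTensor_tmul, map_zero] at h4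
    rw [Module.Flat.ker_lTensor_eq] at h1
    obtain ⟨z, hz⟩ := h1
    have h5 : ∀ z : B ⊗[A] LinearMap.ker φ,
        AlgebraTensorModule.rid A B B (AlgebraTensorModule.lTensor B B (LinearMap.ker φ).subtype z) ∈
          (Module.annihilator A M).map (algebraMap A B) := by
      intro z
      induction z with
      | zero => rw [map_zero, map_zero]; exact zero_mem _
      | add x y hx hy => rw [map_add, map_add]; exact add_mem hx hy
      | tmul b a =>
        rw [AlgebraTensorModule.lTensor_tmul, AlgebraTensorModule.rid_tmul, Submodule.coe_subtype,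
          Algebra.smul_def]
        exact Ideal.mul_mem_right _ _ (Ideal.mem_map_of_mem _ (hker _ a.2))
    have h6 := h5 z
    rwa [hz, AlgebraTensorModule.rid_tmul, one_smul] at h6
  · rw [Ideal.map_le_iff_le_comap]
    intro a ha
    rw [Ideal.mem_comap, Module.mem_annihilator]
    intro t
    induction t with
    | zero => rw [smul_zero]
    | add x y hx hy => rw [smul_add, hx, hy, add_zero]
    | tmul b m =>
      rw [algebraMap_smul, ← TensorProduct.tmul_smul, Module.mem_annihilator.mp ha, TensorProduct.tmul_zero]

theorem annihilator_of_isBaseChange {A B M N : Type*} [CommRing A] [CommRing B] [Algebra A B]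
    [Module.Flat A B] [AddCommGroup M] [Module A M] [Module.Finite A M] [AddCommGroup N] [Module A N]
    [Module B N] [IsScalarTower A B N] (f : M →ₗ[A] N) (hf : IsBaseChange B f) :
    Module.annihilator B N = (Module.annihilator A M).map (algebraMap A B) := by
  rw [← annihilator_baseChange]
  exact (LinearEquiv.annihilator_eq hf.equiv).symm

end algebra

open Groth.Agent.Fdesc.PullbackSec

theorem comap_eq_annIdeal {Y X : Scheme.{u}} (f : Y ⟶ X) [Flat f] (F : X.Modules)
    (hq : Coh.IsQCoh F) (hft : CohB1.IsFT F) (J : X.IdealSheafData)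
    (hJ : ∀ U : X.affineOpens, J.ideal U = Module.annihilator Γ(X, U.1) Γ(F, U.1)) :
    J.comap f = Groth.Agent.Ega1.AnnIdeal.annIdeal ((Scheme.Modules.pullback f).obj F)
      (Groth.Agent.FormalA.PullbackQC.isQCoh_pullback f F hq)
      (Groth.Agent.FormalA.PullbackQC.isFT_pullback f F hft) := by
  have h : ∀ y : Y, ∃ (V : Y.affineOpens) (U : X.affineOpens) (_ : V.1 ≤ f ⁻¹ᵁ U.1), y ∈ V.1 := by
    intro y
    obtain ⟨U, hU, hxU, -⟩ := exists_isAffineOpen_mem_and_subset (x := f y) (U := ⊤) trivial
    obtain ⟨V, hV, hyV, hVU⟩ := exists_isAffineOpen_mem_and_subset (x := y) (U := f ⁻¹ᵁ U) hxU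
    exact ⟨⟨V, hV⟩, ⟨U, hU⟩, hVU, hyV⟩
  choose V U e hy using h
  refine Scheme.IdealSheafData.ext_of_iSup_eq_top V ?_ fun y => ?_
  · rw [eq_top_iff]
    intro y _
    exact Opens.mem_iSup.mpr ⟨y, hy y⟩
  · have hfin : Module.Finite Γ(X, (U y).1) Γ(F, (U y).1) :=
      Groth.Agent.CohqB.FiniteType2.finite_sections_of_isFT F hft (U y).2
    rw [Groth.Agent.Divis.IdealComap.ideal_comap J f (U y) (V y) (e y), hJ]
    let := secAlg f (e y)
    let := secModule f (e y) ((Scheme.Modules.pullback f).obj F)
    have := isScalarTower_sec f (e y) ((Scheme.Modules.pullback f).obj F)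
    have hfl : Module.Flat Γ(X, (U y).1) Γ(Y, (V y).1) := Flat.flat_appLE f (U y).2 (V y).2 (e y)
    exact (annihilator_of_isBaseChange _ (isBaseChange_pullSec f (e y) (U y).2 (V y).2 F hq
      (Groth.Agent.FormalA.PullbackQC.isQCoh_pullback f F hq))).symm

end K582.AnnFlat
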