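import Groth.Agent.QCohCat.K658.Abel
import Groth.Agent.S3630
import Groth.Agent.Ega1.QcqsPush
import Mathlib.CategoryTheory.Adjunction.Restrict

/-!
# Consequences of the existence of the coherator
-/

set_option autoImplicit false
universe u

open CategoryTheory CategoryTheory.Limits AlgebraicGeometry TopologicalSpace

namespace K582.Coherator

/-- The largest quasi-coherent submodule of a submodule `G` of a quasi-coherent module. -/
theorem exists_largest (X : Scheme.{u}) (F G : X.Modules) (hF : Coh.IsQCoh F) (j : G ⟶ F) [Mono j] :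
    ∃ (G' : X.Modules) (k : G' ⟶ G), Coh.IsQCoh G' ∧ Mono k ∧
      ∀ H : X.Modules, Coh.IsQCoh H → Function.Bijective (fun φ : H ⟶ G' => φ ≫ k) := by
  have := K658.Abel.isLeftAdjoint_ι X
  let Q := (QCohCat.isQCoh X).ι.rightAdjoint
  let adj : (QCohCat.isQCoh X).ι ⊣ Q := Adjunction.ofIsLeftAdjoint _
  have hbij : ∀ H : X.Modules, Coh.IsQCoh H →
      Function.Bijective (fun φ : H ⟶ (Q.obj G).obj => φ ≫ adj.counit.app G) := by
    intro H hH
    let H' : QCohCat.QCoh X := ⟨H, hH⟩
    have h1 := (adj.homEquiv H' G).symm.bijective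
    have h2 := ((QCohCat.isQCoh X).fullyFaithfulι.homEquiv (X := H') (Y := Q.obj G)).symm.bijective
    have h3 := h1.comp h2
    have h4 : (fun φ : H ⟶ (Q.obj G).obj => φ ≫ adj.counit.app G) =
        ((adj.homEquiv H' G).symm ∘
          ((QCohCat.isQCoh X).fullyFaithfulι.homEquiv (X := H') (Y := Q.obj G)).symm) := by
      funext φ
      rw [Function.comp_apply, Adjunction.homEquiv_counit]
      rfl
    rw [h4]
    exact h3
  refine ⟨(Q.obj G).obj, adj.counit.app G, (Q.obj G).property, ?_, hbij⟩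
  have hK : Coh.IsQCoh (kernel (adj.counit.app G ≫ j)) :=
    Groth.Agent.PerfA.QCohSerre.isQCoh_kernel _ (Q.obj G).property hF
  have h0 : kernel.ι (adj.counit.app G ≫ j) ≫ adj.counit.app G = 0 := by
    rw [← cancel_mono j, Category.assoc, kernel.condition, zero_comp]
  have h1 : kernel.ι (adj.counit.app G ≫ j) = 0 := by
    apply (hbij _ hK).1
    change _ ≫ _ = _ ≫ _
    rw [h0, zero_comp]
  have h2 : Mono (adj.counit.app G ≫ j) := Preadditive.mono_of_kernel_zero h1
  exact mono_of_mono _ j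

/-- `i_* : QCoh(Z) ⥤ QCoh(X)` for a closed immersion. -/
noncomputable def push {Z X : Scheme.{u}} (i : Z ⟶ X) [IsClosedImmersion i] :
    QCohCat.QCoh Z ⥤ QCohCat.QCoh X :=
  (QCohCat.isQCoh X).lift ((QCohCat.isQCoh Z).ι ⋙ Coh.push i) (fun M =>
    Groth.Agent.Ega1.QcqsPush.isQCoh_pushforward i M.obj M.property)

noncomputable def pushIso {Z X : Scheme.{u}} (i : Z ⟶ X) [IsClosedImmersion i] :
    push i ⋙ (QCohCat.isQCoh X).ι ≅ (QCohCat.isQCoh Z).ι ⋙ Coh.push i :=
  Iso.refl _

theorem isLeftAdjoint_push {Z X : Scheme.{u}} (i : Z ⟶ X) [IsClosedImmersion i] :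
    (push i).IsLeftAdjoint := by
  have := K658.Abel.isLeftAdjoint_ι Z
  have : (Scheme.Modules.pushforward i).IsLeftAdjoint := Groth.Agent.S3630.result Z X i
  let adj := (Adjunction.ofIsLeftAdjoint (QCohCat.isQCoh Z).ι).comp
    (Adjunction.ofIsLeftAdjoint (Scheme.Modules.pushforward i))
  exact (adj.restrictFullyFaithful (Functor.FullyFaithful.id _) (QCohCat.isQCoh X).fullyFaithfulι
    (L := push i) (R := (QCohCat.isQCoh X).ι ⋙ (Scheme.Modules.pushforward i).rightAdjoint ⋙
      (QCohCat.isQCoh Z).ι.rightAdjoint) (Iso.refl _) (Iso.refl _)).isLeftAdjoint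

end K582.Coherator
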