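import Groth.Agent.FlatB.PushSections
import Mathlib.AlgebraicGeometry.IdealSheaf.Subscheme
import Mathlib.AlgebraicGeometry.Morphisms.IsIso

/-!
# The union of two closed subschemes is their pushout along the intersection
-/

set_option autoImplicit false

open AlgebraicGeometry CategoryTheory Limits TopologicalSpace Opposite
open AlgebraicGeometry.Scheme.IdealSheafData

universe u

namespace K582.SupPush

variable {S : Scheme.{u}}

theorem isClosedImmersion_inclusion {I J : S.IdealSheafData} (h : I ≤ J) :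
    IsClosedImmersion (inclusion h) := by
  have : IsClosedImmersion (inclusion h ≫ I.subschemeι) := by
    rw [inclusion_subschemeι]; infer_instance
  exact IsClosedImmersion.of_comp (inclusion h) I.subschemeι

/-- sections of the closed subscheme over (the preimage of) an affine open lift. -/
theorem exists_lift (K : S.IdealSheafData) (U : S.affineOpens)
    (t : Γ(K.subscheme, K.subschemeι ⁻¹ᵁ U.1)) : ∃ s : Γ(S, U.1), K.subschemeι.app U.1 s = t :=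
  K.subschemeι_app_surjective U t

theorem app_eq_zero_iff (K : S.IdealSheafData) (U : S.affineOpens) (s : Γ(S, U.1)) :
    K.subschemeι.app U.1 s = 0 ↔ s ∈ K.ideal U := by
  rw [← K.ker_subschemeι_app U]
  rfl

theorem appLE_incl {I J : S.IdealSheafData} (h : I ≤ J) (U : S.Opens)
    (e : J.subschemeι ⁻¹ᵁ U ≤ inclusion h ⁻¹ᵁ I.subschemeι ⁻¹ᵁ U) :
    I.subschemeι.app U ≫ (inclusion h).appLE (I.subschemeι ⁻¹ᵁ U) (J.subschemeι ⁻¹ᵁ U) e =
      J.subschemeι.app U := by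
  rw [← Scheme.Hom.appLE_eq_app, ← Scheme.Hom.appLE_eq_app, Scheme.Hom.appLE_comp_appLE]
  simp only [inclusion_subschemeι]

theorem preimage_incl {I J : S.IdealSheafData} (h : I ≤ J) (U : S.Opens) :
    inclusion h ⁻¹ᵁ I.subschemeι ⁻¹ᵁ U = J.subschemeι ⁻¹ᵁ U := by
  rw [← Scheme.Hom.comp_preimage, inclusion_subschemeι]

theorem app_bijective (I J : S.IdealSheafData) {W : Scheme.{u}} (a : I.subscheme ⟶ W)
    (b : J.subscheme ⟶ W) (c : W ⟶ (I ⊓ J).subscheme)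
    (hab : inclusion (le_sup_left : I ≤ I ⊔ J) ≫ a = inclusion (le_sup_right : J ≤ I ⊔ J) ≫ b)
    (ha : a ≫ c = inclusion inf_le_left) (hb : b ≫ c = inclusion inf_le_right)
    (huniq : ∀ (O : W.Opens) (r r' : Γ(W, O)), a.app O r = a.app O r' → b.app O r = b.app O r' →
        r = r') (U : S.affineOpens) :
    Function.Bijective (c.app ((I ⊓ J).subschemeι ⁻¹ᵁ U.1)) := by
  have hcs : (c ≫ (I ⊓ J).subschemeι).app U.1 = (I ⊓ J).subschemeι.app U.1 ≫ c.app _ :=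
    Scheme.Hom.comp_app _ _ _
  have haU : I.subschemeι ⁻¹ᵁ U.1 ≤ a ⁻¹ᵁ c ⁻¹ᵁ (I ⊓ J).subschemeι ⁻¹ᵁ U.1 := by
    rw [← Scheme.Hom.comp_preimage, ha, preimage_incl]
  have hbU : J.subschemeι ⁻¹ᵁ U.1 ≤ b ⁻¹ᵁ c ⁻¹ᵁ (I ⊓ J).subschemeι ⁻¹ᵁ U.1 := by
    rw [← Scheme.Hom.comp_preimage, hb, preimage_incl]
  -- sections over `U` pulled back to `X`
  have key1 : (I ⊓ J).subschemeι.app U.1 ≫ c.app _ ≫
      a.appLE (c ⁻¹ᵁ (I ⊓ J).subschemeι ⁻¹ᵁ U.1) (I.subschemeι ⁻¹ᵁ U.1) haU =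
        I.subschemeι.app U.1 := by
    simp only [← Scheme.Hom.appLE_eq_app, Scheme.Hom.appLE_comp_appLE, Category.assoc]
    simp only [← Category.assoc, ha, inclusion_subschemeι]
  have key2 : (I ⊓ J).subschemeι.app U.1 ≫ c.app _ ≫
      b.appLE (c ⁻¹ᵁ (I ⊓ J).subschemeι ⁻¹ᵁ U.1) (J.subschemeι ⁻¹ᵁ U.1) hbU =
        J.subschemeι.app U.1 := by
    simp only [← Scheme.Hom.appLE_eq_app, Scheme.Hom.appLE_comp_appLE, Category.assoc]
    simp only [← Category.assoc, hb, inclusion_subschemeι]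
  have hinja : ∀ r r' : Γ(W, c ⁻¹ᵁ (I ⊓ J).subschemeι ⁻¹ᵁ U.1),
      a.appLE _ (I.subschemeι ⁻¹ᵁ U.1) haU r = a.appLE _ (I.subschemeι ⁻¹ᵁ U.1) haU r' →
      a.app _ r = a.app _ r' := by
    intro r r' h
    have haU' : I.subschemeι ⁻¹ᵁ U.1 = a ⁻¹ᵁ c ⁻¹ᵁ (I ⊓ J).subschemeι ⁻¹ᵁ U.1 := by
      rw [← Scheme.Hom.comp_preimage, ha, preimage_incl]
    have : a.app (c ⁻¹ᵁ (I ⊓ J).subschemeι ⁻¹ᵁ U.1) =
        a.appLE _ (I.subschemeι ⁻¹ᵁ U.1) haU ≫
          (I.subscheme.presheaf.map (homOfLE haU'.ge).op) := by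
      rw [Scheme.Hom.appLE_map, Scheme.Hom.appLE_eq_app]
    rw [this, CommRingCat.comp_apply, CommRingCat.comp_apply, h]
  have hinjb : ∀ r r' : Γ(W, c ⁻¹ᵁ (I ⊓ J).subschemeι ⁻¹ᵁ U.1),
      b.appLE _ (J.subschemeι ⁻¹ᵁ U.1) hbU r = b.appLE _ (J.subschemeι ⁻¹ᵁ U.1) hbU r' →
      b.app _ r = b.app _ r' := by
    intro r r' h
    have hbU' : J.subschemeι ⁻¹ᵁ U.1 = b ⁻¹ᵁ c ⁻¹ᵁ (I ⊓ J).subschemeι ⁻¹ᵁ U.1 := by
      rw [← Scheme.Hom.comp_preimage, hb, preimage_incl]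
    have : b.app (c ⁻¹ᵁ (I ⊓ J).subschemeι ⁻¹ᵁ U.1) =
        b.appLE _ (J.subschemeι ⁻¹ᵁ U.1) hbU ≫
          (J.subscheme.presheaf.map (homOfLE hbU'.ge).op) := by
      rw [Scheme.Hom.appLE_map, Scheme.Hom.appLE_eq_app]
    rw [this, CommRingCat.comp_apply, CommRingCat.comp_apply, h]
  constructor
  · rw [injective_iff_map_eq_zero]
    intro r hr
    obtain ⟨s, rfl⟩ := exists_lift (I ⊓ J) U r
    rw [app_eq_zero_iff]
    have h1 : I.subschemeι.app U.1 s = 0 := by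
      rw [← key1, CommRingCat.comp_apply, CommRingCat.comp_apply, hr, map_zero]
    have h2 : J.subschemeι.app U.1 s = 0 := by
      rw [← key2, CommRingCat.comp_apply, CommRingCat.comp_apply, hr, map_zero]
    exact ⟨(app_eq_zero_iff I U s).mp h1, (app_eq_zero_iff J U s).mp h2⟩
  · intro r
    obtain ⟨s, hs⟩ := exists_lift I U (a.appLE _ (I.subschemeι ⁻¹ᵁ U.1) haU r)
    obtain ⟨t, ht⟩ := exists_lift J U (b.appLE _ (J.subschemeι ⁻¹ᵁ U.1) hbU r)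
    have hz : (I ⊔ J).subschemeι.app U.1 (s - t) = 0 := by
      rw [map_sub, sub_eq_zero]
      have e1 : (I ⊔ J).subschemeι ⁻¹ᵁ U.1 ≤ inclusion (le_sup_left : I ≤ I ⊔ J) ⁻¹ᵁ
        I.subschemeι ⁻¹ᵁ U.1 := (preimage_incl _ _).ge
      have e2 : (I ⊔ J).subschemeι ⁻¹ᵁ U.1 ≤ inclusion (le_sup_right : J ≤ I ⊔ J) ⁻¹ᵁ
        J.subschemeι ⁻¹ᵁ U.1 := (preimage_incl _ _).ge
      have h1 : (I ⊔ J).subschemeι.app U.1 s = (inclusion le_sup_left).appLE _ _ e1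
          (a.appLE _ (I.subschemeι ⁻¹ᵁ U.1) haU r) := by
        rw [← hs, ← CommRingCat.comp_apply, appLE_incl]
      have h2 : (I ⊔ J).subschemeι.app U.1 t = (inclusion le_sup_right).appLE _ _ e2
          (b.appLE _ (J.subschemeι ⁻¹ᵁ U.1) hbU r) := by
        rw [← ht, ← CommRingCat.comp_apply, appLE_incl]
      rw [h1, h2, ← CommRingCat.comp_apply, ← CommRingCat.comp_apply,
        Scheme.Hom.appLE_comp_appLE, Scheme.Hom.appLE_comp_appLE]
      simp only [hab]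
    rw [app_eq_zero_iff, ideal_sup] at hz
    obtain ⟨p, hp, q, hq, hpq⟩ := Submodule.mem_sup.mp hz
    refine ⟨(I ⊓ J).subschemeι.app U.1 (s - p), ?_⟩
    have hst : s - p = t + q := by rw [sub_eq_iff_eq_add, add_assoc, add_comm q p, hpq]; ring
    apply huniq
    · apply hinja
      rw [← hs, ← CommRingCat.comp_apply, ← CommRingCat.comp_apply]
      have : I.subschemeι.app U.1 (s - p) = I.subschemeι.app U.1 s := by
        rw [map_sub, (app_eq_zero_iff I U p).mpr hp, sub_zero]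
      rw [key1, this]
    · apply hinjb
      rw [← ht, ← CommRingCat.comp_apply, ← CommRingCat.comp_apply]
      have : J.subschemeι.app U.1 (s - p) = J.subschemeι.app U.1 t := by
        rw [hst, map_add, (app_eq_zero_iff J U q).mpr hq, add_zero]
      rw [key2, this]

theorem isPushout (I J : S.IdealSheafData) :
    IsPushout (inclusion (le_sup_left : I ≤ I ⊔ J)) (inclusion (le_sup_right : J ≤ I ⊔ J))
      (inclusion (inf_le_left : I ⊓ J ≤ I)) (inclusion (inf_le_right : I ⊓ J ≤ J)) := by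
  have := isClosedImmersion_inclusion (le_sup_left : I ≤ I ⊔ J)
  have Haff : ∀ (K : S.IdealSheafData) (U : S.affineOpens), IsAffineOpen (K.subschemeι ⁻¹ᵁ U.1) :=
    fun K U => U.2.preimage K.subschemeι
  obtain ⟨W, a, b, hpush, -, -, -, -, -, -, hsurj, hchart, hsec, huniq⟩ :=
    Groth.Agent.FlatB.PushSections.exists_pushout_sections
      (inclusion (le_sup_left : I ≤ I ⊔ J)) (inclusion (le_sup_right : J ≤ I ⊔ J)) (by
        intro y
        obtain ⟨U, hU, hyU, -⟩ := exists_isAffineOpen_mem_and_subset (U := ⊤)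
          (x := J.subschemeι y) trivial
        refine ⟨I.subschemeι ⁻¹ᵁ U, J.subschemeι ⁻¹ᵁ U, Haff I ⟨U, hU⟩, Haff J ⟨U, hU⟩, hyU, ?_⟩
        rw [preimage_incl, preimage_incl])
  have hfg : inclusion (le_sup_left : I ≤ I ⊔ J) ≫ inclusion (inf_le_left : I ⊓ J ≤ I) =
      inclusion (le_sup_right : J ≤ I ⊔ J) ≫ inclusion (inf_le_right : I ⊓ J ≤ J) := by
    rw [inclusion_comp, inclusion_comp]
  let c : W ⟶ (I ⊓ J).subscheme := hpush.desc _ _ hfg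
  have hca : a ≫ c = inclusion inf_le_left := hpush.inl_desc _ _ hfg
  have hcb : b ≫ c = inclusion inf_le_right := hpush.inr_desc _ _ hfg
  have hiso : IsIso c := by
    rw [← MorphismProperty.isomorphisms.iff]
    rw [HasAffineProperty.iff_of_iSup_eq_top (P := MorphismProperty.isomorphisms Scheme.{u})
      (fun U : S.affineOpens => ⟨(I ⊓ J).subschemeι ⁻¹ᵁ U.1, Haff _ U⟩) (by
        rw [eq_top_iff]
        intro x _
        obtain ⟨U, hU, hxU, -⟩ := exists_isAffineOpen_mem_and_subset (U := ⊤)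
          (x := (I ⊓ J).subschemeι x) trivial
        exact Opens.mem_iSup.mpr ⟨⟨U, hU⟩, hxU⟩)]
    intro U
    obtain ⟨O, hO, haO, hbO⟩ := hchart (I.subschemeι ⁻¹ᵁ U.1) (J.subschemeι ⁻¹ᵁ U.1) (Haff I U)
      (Haff J U) (by rw [preimage_incl, preimage_incl])
    have hcO : c ⁻¹ᵁ ((I ⊓ J).subschemeι ⁻¹ᵁ U.1) = O := by
      ext w
      obtain ⟨x, rfl⟩ | ⟨y, rfl⟩ := hsurj w
      · have h1 : a x ∈ c ⁻¹ᵁ ((I ⊓ J).subschemeι ⁻¹ᵁ U.1) ↔
            x ∈ a ⁻¹ᵁ c ⁻¹ᵁ ((I ⊓ J).subschemeι ⁻¹ᵁ U.1) := Iff.rfl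
        have h2 : a x ∈ O ↔ x ∈ a ⁻¹ᵁ O := Iff.rfl
        change a x ∈ c ⁻¹ᵁ ((I ⊓ J).subschemeι ⁻¹ᵁ U.1) ↔ a x ∈ O
        rw [h1, h2, haO, ← Scheme.Hom.comp_preimage, hca, preimage_incl]
      · have h1 : b y ∈ c ⁻¹ᵁ ((I ⊓ J).subschemeι ⁻¹ᵁ U.1) ↔
            y ∈ b ⁻¹ᵁ c ⁻¹ᵁ ((I ⊓ J).subschemeι ⁻¹ᵁ U.1) := Iff.rfl
        have h2 : b y ∈ O ↔ y ∈ b ⁻¹ᵁ O := Iff.rfl
        change b y ∈ c ⁻¹ᵁ ((I ⊓ J).subschemeι ⁻¹ᵁ U.1) ↔ b y ∈ O
        rw [h1, h2, hbO, ← Scheme.Hom.comp_preimage, hcb, preimage_incl]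
    have hbij := app_bijective I J a b c hpush.w hca hcb huniq U
    have hisoapp : IsIso (c.app ((I ⊓ J).subschemeι ⁻¹ᵁ U.1)) :=
      (ConcreteCategory.isIso_iff_bijective _).mpr hbij
    refine ⟨?_, ?_⟩
    · change IsAffine (c ⁻¹ᵁ ((I ⊓ J).subschemeι ⁻¹ᵁ U.1)).toScheme
      rw [hcO]
      exact hO
    · rw [morphismRestrict_appTop]
      have : ((I ⊓ J).subschemeι ⁻¹ᵁ U.1).ι ''ᵁ ⊤ = (I ⊓ J).subschemeι ⁻¹ᵁ U.1 := by simp
      have h2 : IsIso (c.app (((I ⊓ J).subschemeι ⁻¹ᵁ U.1).ι ''ᵁ ⊤)) := by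
        rw [this]; exact hisoapp
      have h3 : IsIso (W.presheaf.map (eqToHom (image_morphismRestrict_preimage c
          ((I ⊓ J).subschemeι ⁻¹ᵁ U.1) ⊤)).op) := by infer_instance
      exact @IsIso.comp_isIso _ _ _ _ _ _ _ h2 h3
  exact IsPushout.of_iso hpush (Iso.refl _) (Iso.refl _) (Iso.refl _) (asIso c)
    (by simp) (by simp) (by simp [hca]) (by simp [hcb])

end K582.SupPush
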